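import Cfsg.Agent.Lib.Golay.M24
import Cfsg.Agent.Lib.Golay.Overgroups.Data

/-!
Checking that a list of permutations generates the Mathieu group of degree 24.
-/

set_option autoImplicit false
set_option maxRecDepth 20000

namespace CfsgLib.Golay.Over

open Cfsg

/-- the generators followed by the results of the program -/
def allVals (base : List ℕ) (prog : List (ℕ × ℕ × ℕ)) : List ℕ := base ++ prog.map fun t => t.2.2

/-- each step multiplies two earlier values -/
def stepsOK (full : List ℕ) : ℕ → List (ℕ × ℕ × ℕ) → Bool
  | _, [] => true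
  | n, (i, j, P) :: rest =>
    decide (i < n) && decide (j < n) && P == mulP (full.getD i 0) (full.getD j 0) && stepsOK full (n + 1) rest

/-- the levels with the chosen generators -/
def levsFor (full : List ℕ) (pick : List (List ℕ)) : List Lev :=
  (levs24.zip pick).map fun t => ⟨t.1.b, t.1.inv, t.2.map fun i => full.getD i 0⟩

/-- the generation certificate -/
def genOK (base : List ℕ) (prog : List (ℕ × ℕ × ℕ)) (pick : List (List ℕ)) : Bool :=
  let full := allVals base prog
  base.all inM24 && stepsOK full base.length prog &&
    pick.all (fun l => l.all fun i => decide (i < full.length)) &&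
    chainOK [] 0 (levsFor full pick) &&
    chainBot 0 (levsFor full pick) == chainBot 0 levs24 &&
    chainProd 0 (levsFor full pick) == 244823040

theorem steps_sound {H : Subgroup (Equiv.Perm GolayPt)} (full : List ℕ) :
    ∀ (rest : List (ℕ × ℕ × ℕ)) (n : ℕ), stepsOK full n rest = true →
      full.drop n = rest.map (fun t => t.2.2) →
      (∀ k < n, validP (full.getD k 0) = true ∧ toPerm (full.getD k 0) ∈ H) →
      ∀ k < n + rest.length, validP (full.getD k 0) = true ∧ toPerm (full.getD k 0) ∈ H := by
  intro rest
  induction rest with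
  | nil => intro n _ _ h k hk; exact h k (by simpa using hk)
  | cons t rest ih =>
    obtain ⟨i, j, P⟩ := t
    intro n hok hdrop h k hk
    simp only [stepsOK, Bool.and_eq_true, decide_eq_true_eq, beq_iff_eq] at hok
    obtain ⟨⟨⟨hi, hj⟩, hP⟩, hrest⟩ := hok
    have hlt : n < full.length := by
      have := congrArg List.length hdrop
      simp only [List.length_drop, List.length_map, List.length_cons] at this
      omega
    rw [List.drop_eq_getElem_cons hlt, List.map_cons, List.cons.injEq] at hdrop
    have hn : full.getD n 0 = P := by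
      rw [List.getD_eq_getElem?_getD, List.getElem?_eq_getElem hlt]; exact hdrop.1
    refine ih (n + 1) hrest hdrop.2 (fun m hm => ?_) k (by simp only [List.length_cons] at hk; omega)
    rcases Nat.lt_succ_iff_lt_or_eq.1 hm with hm | rfl
    · exact h m hm
    · rw [hn, hP]
      exact ⟨validP_mulP (h i hi).1 (h j hj).1, by
        rw [toPerm_mulP (h i hi).1 (h j hj).1]; exact mul_mem (h i hi).2 (h j hj).2⟩

theorem eq_M24_of_genOK {H : Subgroup (Equiv.Perm GolayPt)} (hH : H ≤ M24) {base : List ℕ}
    {prog : List (ℕ × ℕ × ℕ)} {pick : List (List ℕ)} (h : genOK base prog pick = true)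
    (hmem : ∀ P ∈ base, toPerm P ∈ H) : H = M24 := by
  simp only [genOK, Bool.and_eq_true, beq_iff_eq, List.all_eq_true, decide_eq_true_eq] at h
  obtain ⟨⟨⟨⟨⟨hbase, hsteps⟩, hpick⟩, hchain⟩, hbot⟩, hprod⟩ := h
  set full := allVals base prog with hfull
  have hlen : full.length = base.length + prog.length := by simp [hfull, allVals]
  have hall := steps_sound (H := H) full prog base.length hsteps (by simp [hfull, allVals]) (fun k hk => by
    have he : full.getD k 0 = base[k] := by
      rw [hfull, allVals, List.getD_eq_getElem?_getD, List.getElem?_append_left hk, List.getElem?_eq_getElem hk]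
      rfl
    rw [he]
    have hb := hbase _ (List.getElem_mem hk)
    simp only [inM24, Bool.and_eq_true] at hb
    exact ⟨hb.1, hmem _ (List.getElem_mem hk)⟩)
  have hC : ∀ L ∈ levsFor full pick, Carries H [] L.gens := by
    intro L hL
    obtain ⟨⟨L0, l⟩, ht, rfl⟩ := List.mem_map.1 hL
    refine ⟨hH, fun o ho => absurd ho List.not_mem_nil, fun P hP => ?_⟩
    obtain ⟨i, hi, rfl⟩ := List.mem_map.1 hP
    have := hpick l (List.of_mem_zip ht).2 i hi
    exact (hall i (by omega)).2
  have hc := card_chain (levsFor full pick) 0 hC hchain
  rw [fixH_zero, hprod, hbot, fixH_eq_bot_of_stages hH stages24_ok, Subgroup.card_bot, mul_one] at hc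
  exact Subgroup.eq_of_le_of_card_ge hH (by rw [natCard_M24, hc])

end CfsgLib.Golay.Over
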