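import Cfsg.Agent.S5394
import Cfsg.Agent.Lib.Golay.Aut
import Cfsg.Agent.Lib.Golay.MathieuFacts
import Cfsg.Agent.Lib.Golay.Classes.Three
import Cfsg.Agent.Lib.Perm.JordanPrime

/-!
Subgroups of index 276 of the Mathieu group of degree 24 are stabilizers of duads.
-/

set_option autoImplicit false
set_option maxRecDepth 20000
set_option linter.style.haveILetI false

namespace CfsgLib.Golay.Over

open Cfsg CfsgLib.Golay.Classes CfsgLib.Golay.Aut
open scoped Pointwise

theorem natCard_fixF5 : Nat.card (fixH M24 F5) = 48 := by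
  have h := card_chain (levs24.drop 5) F5 (carries_sub (List.drop_subset _ _) carries24)
    (by decide +kernel)
  rw [fixH_eq_bot_of_stages le_rfl (St := stages24) (F := chainBot F5 (levs24.drop 5))
    (by decide +kernel), Subgroup.card_bot, mul_one] at h
  rw [h]; decide +kernel

theorem mem_F5_base : ∀ p : GolayPt, p ∈ dec F5 → p ∈ base5.map pt := by decide +kernel

/-- an element of the group fixing nine points is trivial -/
theorem fix_nine {g : Equiv.Perm GolayPt} (hg : g ∈ M24) (h9 : 9 ≤ (fixSet g).card) : g = 1 := by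
  by_contra hne
  have hn1 : orderOf g ≠ 1 := fun e => hne (orderOf_eq_one_iff.1 e)
  obtain ⟨p, hp, m, hm⟩ := Nat.exists_prime_and_dvd hn1
  have hm0 : m ≠ 0 := by
    rintro rfl
    exact absurd hm (by simpa using (orderOf_pos g).ne')
  haveI := Fact.mk hp
  set x := g ^ m with hx
  have hxo : orderOf x = p := by
    rw [hx, orderOf_pow_of_dvd hm0 ⟨p, by rw [hm, mul_comm]⟩, hm, Nat.mul_div_cancel _ (Nat.pos_of_ne_zero hm0)]
  have hxM : x ∈ M24 := pow_mem hg m
  have hsub : fixSet g ⊆ fixSet x := fun q hq =>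
    mem_fixSet.2 (Equiv.Perm.pow_apply_eq_self_of_apply_eq_self (mem_fixSet.1 hq) m)
  have h9x : 9 ≤ (fixSet x).card := h9.trans (Finset.card_le_card hsub)
  by_cases h2 : p = 2
  · rcases fixSet_two hxM (hxo.trans h2) with h | h
    · omega
    · have : fixSet x = ∅ := Finset.eq_empty_of_forall_notMem fun q hq => h q (mem_fixSet.1 hq)
      rw [this] at h9x; simp at h9x
  by_cases h3 : p = 3
  · rcases fixSet_three hxM (hxo.trans h3) with h | h <;> omega
  set y := (fixSet x).toList.take 5 with hy
  have hyl : y.length = 5 := by rw [hy, List.length_take, Finset.length_toList]; omega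
  have hynd : y.Nodup := ((fixSet x).nodup_toList).sublist (List.take_sublist _ _)
  obtain ⟨k, hk, hmap⟩ := exists_map_base5 y hyl hynd
  have hmem : k⁻¹ * x * k ∈ fixH M24 F5 := by
    refine mem_fixH.2 ⟨mul_mem (mul_mem (inv_mem hk) hxM) hk, fun q hq => ?_⟩
    obtain ⟨b, hb, rfl⟩ := List.mem_map.1 (mem_F5_base q hq)
    have hky : k (pt b) ∈ y := by
      rw [← hmap]
      exact List.mem_map.2 ⟨b, hb, rfl⟩
    exact (conj_apply_eq_iff rfl).2 (mem_fixSet.1 (Finset.mem_toList.1 (List.take_subset _ _ hky)))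
  have hd := (fixH M24 F5).orderOf_dvd_natCard hmem
  have ho : orderOf (k⁻¹ * x * k) = p := by
    rw [← hxo]
    calc orderOf (k⁻¹ * x * k) = orderOf (k⁻¹ * x * k⁻¹⁻¹) := by rw [inv_inv]
      _ = orderOf x := orderOf_conj _ _
  rw [ho, natCard_fixF5, show 48 = 2 ^ 4 * 3 by norm_num] at hd
  rcases hp.dvd_mul.1 hd with h | h
  · exact h2 ((Nat.prime_dvd_prime_iff_eq hp Nat.prime_two).1 (hp.dvd_of_dvd_pow h))
  · exact h3 ((Nat.prime_dvd_prime_iff_eq hp Nat.prime_three).1 h)

/-- a subgroup of order divisible by seven has no orbit of eleven points, unless it is very large -/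
theorem no_orbit_eleven {J : Subgroup (Equiv.Perm GolayPt)} (hJ : J ≤ M24) (h7 : 7 ∣ Nat.card J)
    (hlt : Nat.card J < 19958400) (c : GolayPt) (h11 : Nat.card (MulAction.orbit J c) = 11) : False := by
  classical
  haveI : Fact (Nat.Prime 7) := ⟨by norm_num⟩
  set D := MulAction.orbit J c with hD
  haveI : Fintype D := Fintype.ofFinite _
  let φ : J →* Equiv.Perm D := MulAction.toPermHom J D
  have hφ : Function.Injective φ := by
    rw [← MonoidHom.ker_eq_bot_iff, Subgroup.eq_bot_iff_forall]
    intro g hg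
    refine Subtype.ext (fix_nine (hJ g.2) ?_)
    have hsub : D.toFinset ⊆ fixSet (g : Equiv.Perm GolayPt) := fun q hq =>
      mem_fixSet.2 (congrArg Subtype.val (Equiv.congr_fun (MonoidHom.mem_ker.1 hg) ⟨q, Set.mem_toFinset.1 hq⟩))
    have := Finset.card_le_card hsub
    rw [← Set.ncard_eq_toFinset_card', ← Nat.card_coe_set_eq, h11] at this
    omega
  have hcardD : Nat.card D = 11 := h11
  set G := φ.range with hG
  have hcardG : Nat.card G = Nat.card J := (Nat.card_congr (φ.ofInjective hφ).toEquiv).symm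
  haveI : MulAction.IsPretransitive G D := ⟨fun a b => by
    obtain ⟨g, hg⟩ := MulAction.exists_smul_eq J a b
    exact ⟨⟨φ g, g, rfl⟩, hg⟩⟩
  have hprim : MulAction.IsPreprimitive G D :=
    MulAction.IsPreprimitive.of_prime_card (hcardD ▸ (by norm_num : Nat.Prime 11))
  obtain ⟨x, hx⟩ := exists_prime_orderOf_dvd_card' (G := J) 7 h7
  have ho : orderOf (φ x) = 7 := by rw [orderOf_injective φ hφ, hx]
  have hcard11 : Fintype.card D = 11 := by rw [← Nat.card_eq_fintype_card, hcardD]
  have hsupp : (φ x).support.card < 2 * orderOf (φ x) := by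
    rw [ho]
    have := Finset.card_le_univ (φ x).support
    omega
  have hcyc : (φ x).IsCycle := Equiv.Perm.isCycle_of_prime_order (by rw [ho]; norm_num) hsupp
  have hle := CfsgLib.Perm.alternatingGroup_le_of_isCycle_prime hprim (p := 7) (by norm_num)
    (by rw [hcardD]; norm_num) hcyc (by rw [← hcyc.orderOf, ho]) ⟨x, rfl⟩
  haveI : Nontrivial D := Fintype.one_lt_card_iff_nontrivial.1 (by omega)
  have h1 := Subgroup.card_le_of_le hle
  have h2 := two_mul_card_alternatingGroup (α := D)
  rw [Fintype.card_perm, hcard11] at h2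
  rw [hcardG, Nat.card_eq_fintype_card] at h1
  simp only [Nat.factorial] at h2
  omega

/-- the fixed points of an element of order eleven -/
theorem fix_eleven {x : Equiv.Perm GolayPt} (hx : x ∈ M24) (ho : orderOf x = 11) : (fixSet x).card = 2 := by
  haveI : Fact (Nat.Prime 11) := ⟨by norm_num⟩
  have h := Equiv.Perm.card_compl_support_modEq (p := 11) (n := 1) (σ := x)
    (by rw [pow_one, ← ho, pow_orderOf_eq_one])
  have hs : x.supportᶜ = fixSet x := by ext q; simp [mem_fixSet]
  rw [hs, show Fintype.card GolayPt = 24 from rfl] at h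
  have h9 : (fixSet x).card < 9 := by
    by_contra hge
    have := fix_nine hx (not_lt.1 hge)
    rw [this, orderOf_one] at ho
    norm_num at ho
  unfold Nat.ModEq at h
  omega

theorem orbit_card_two {K : Subgroup (Equiv.Perm GolayPt)} {q : GolayPt}
    (h : Nat.card (MulAction.orbit K q) = 2) :
    ∃ b ≠ q, ∀ g ∈ K, g • ({q, b} : Finset GolayPt) = {q, b} := by
  classical
  haveI : Fintype (MulAction.orbit K q) := Fintype.ofFinite _
  obtain ⟨u, v, huv, he⟩ := Finset.card_eq_two.1 (show (MulAction.orbit K q).toFinset.card = 2 by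
    rw [← Set.ncard_eq_toFinset_card', ← Nat.card_coe_set_eq, h])
  obtain ⟨b, hbq, hb⟩ : ∃ b ≠ q, (MulAction.orbit K q).toFinset = {q, b} := by
    have hq : q ∈ (MulAction.orbit K q).toFinset := Set.mem_toFinset.2 (MulAction.mem_orbit_self q)
    rw [he, Finset.mem_insert, Finset.mem_singleton] at hq
    rcases hq with rfl | rfl
    · exact ⟨v, huv.symm, he⟩
    · exact ⟨u, huv, he.trans (Finset.pair_comm _ _)⟩
  refine ⟨b, hbq, fun g hg => Finset.eq_of_subset_of_card_le (fun r hr => ?_) (by rw [Finset.card_smul_finset])⟩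
  obtain ⟨s, hs, rfl⟩ := Finset.mem_smul_finset.1 hr
  rw [← hb, Set.mem_toFinset] at hs ⊢
  obtain ⟨a, rfl⟩ := hs
  exact ⟨⟨g, hg⟩ * a, mul_smul _ _ _⟩

theorem exists_smul_pair {s t : Finset GolayPt} (hs : s.card = 2) (ht : t.card = 2) :
    ∃ g ∈ M24, g • s = t := by
  obtain ⟨p, q, hpq, rfl⟩ := Finset.card_eq_two.1 hs
  obtain ⟨u, v, huv, rfl⟩ := Finset.card_eq_two.1 ht
  obtain ⟨a, ha, ha1, ha2⟩ := exists_map_pair hpq
  obtain ⟨b, hb, hb1, hb2⟩ := exists_map_pair huv
  refine ⟨b * a⁻¹, mul_mem hb (inv_mem ha), ?_⟩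
  have e1 : (b * a⁻¹) p = u := by rw [Equiv.Perm.mul_apply, ← ha1]; simp [hb1]
  have e2 : (b * a⁻¹) q = v := by rw [Equiv.Perm.mul_apply, ← ha2]; simp [hb2]
  rw [Finset.smul_finset_insert, Finset.smul_finset_singleton, Equiv.Perm.smul_def, Equiv.Perm.smul_def, e1, e2]

theorem index_stab_duad {s : Finset GolayPt} (hs : s.card = 2) :
    (MulAction.stabilizer M24 s).index = 276 := by
  rw [MulAction.index_stabilizer]
  have h : MulAction.orbit M24 s = ((Finset.univ : Finset GolayPt).powersetCard 2 : Set (Finset GolayPt)) := by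
    ext t
    rw [Finset.mem_coe, Finset.mem_powersetCard]
    constructor
    · rintro ⟨g, rfl⟩
      exact ⟨Finset.subset_univ _, (Finset.card_smul_finset (g : Equiv.Perm GolayPt) s).trans hs⟩
    · intro ht
      obtain ⟨g, hg, rfl⟩ := exists_smul_pair hs ht.2
      exact ⟨⟨g, hg⟩, rfl⟩
  rw [h, Set.ncard_coe_finset, Finset.card_powersetCard, Finset.card_univ, show Fintype.card GolayPt = 24 from rfl]
  decide +kernel

/-- a subgroup of order 887040 fixes a duad -/
theorem fixes_duad {K : Subgroup (Equiv.Perm GolayPt)} (hK : K ≤ M24) (hcard : Nat.card K = 887040) :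
    ∃ s : Finset GolayPt, s.card = 2 ∧ ∀ g ∈ K, g • s = s := by
  classical
  haveI : Fact (Nat.Prime 11) := ⟨by norm_num⟩
  obtain ⟨⟨y, hy⟩, hyo⟩ := exists_prime_orderOf_dvd_card' (G := K) 11 (by rw [hcard]; norm_num)
  rw [Subgroup.orderOf_mk] at hyo
  obtain ⟨a, b, hab, hfix⟩ := Finset.card_eq_two.1 (fix_eleven (hK hy) hyo)
  have huniq : ∀ r, y r = r → r = a ∨ r = b := fun r hr => by
    have : r ∈ fixSet y := mem_fixSet.2 hr
    rwa [hfix, Finset.mem_insert, Finset.mem_singleton] at this
  have hya : y a = a := mem_fixSet.1 (hfix ▸ Finset.mem_insert_self a _)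
  have hyb : y b = b := mem_fixSet.1 (hfix ▸ Finset.mem_insert_of_mem (Finset.mem_singleton_self b))
  -- orbits of a subgroup containing `y`
  have hmod : ∀ (J : Subgroup (Equiv.Perm GolayPt)), y ∈ J → ∀ (c : GolayPt) (F : Finset GolayPt),
      (∀ r, r ∈ F ↔ r ∈ MulAction.orbit J c ∧ y r = r) →
      Nat.card (MulAction.orbit J c) % 11 = F.card % 11 := by
    intro J hyJ c F hF
    refine (orbit_mod hyJ hyo c).trans (congrArg (· % 11) ?_)
    rw [← Nat.card_eq_finsetCard]
    exact Nat.card_congr
      { toFun := fun r => ⟨r.1.1, (hF _).2 ⟨r.1.2, r.2⟩⟩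
        invFun := fun r => ⟨⟨r.1, ((hF _).1 r.2).1⟩, ((hF _).1 r.2).2⟩
        left_inv := fun r => rfl
        right_inv := fun r => rfl }
  have hne24 : ∀ (J : Subgroup (Equiv.Perm GolayPt)) (c : GolayPt), Nat.card (MulAction.orbit J c) ≤ 24 :=
    fun J c => (orbit_le (S := Finset.univ) fun g _ => Finset.mem_univ _).trans (le_of_eq rfl)
  have hpos : ∀ (J : Subgroup (Equiv.Perm GolayPt)) (c : GolayPt), 0 < Nat.card (MulAction.orbit J c) :=
    fun J c => by
      haveI : Nonempty (MulAction.orbit J c) := ⟨⟨c, MulAction.mem_orbit_self c⟩⟩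
      exact Nat.card_pos
  set L := K ⊓ MulAction.stabilizer (Equiv.Perm GolayPt) a with hL
  have hyL : y ∈ L := Subgroup.mem_inf.2 ⟨hy, hya⟩
  have hLM : L ≤ M24 := inf_le_left.trans hK
  have hmul : Nat.card (MulAction.orbit K a) * Nat.card L = 887040 := (card_eq_orbit_mul K a).trans hcard
  have horb : Nat.card (MulAction.orbit K a) % 11 = 1 ∨ Nat.card (MulAction.orbit K a) % 11 = 2 := by
    by_cases hb : b ∈ MulAction.orbit K a
    · right
      rw [hmod K hy a {a, b} fun r => ?_, Finset.card_pair hab]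
      rw [Finset.mem_insert, Finset.mem_singleton]
      refine ⟨?_, fun h => huniq r h.2⟩
      rintro (rfl | rfl)
      exacts [⟨MulAction.mem_orbit_self _, hya⟩, ⟨hb, hyb⟩]
    · left
      rw [hmod K hy a {a} fun r => ?_, Finset.card_singleton]
      rw [Finset.mem_singleton]
      refine ⟨?_, fun h => (huniq r h.2).resolve_right fun e => hb (e ▸ h.1)⟩
      rintro rfl
      exact ⟨MulAction.mem_orbit_self _, hya⟩
  have h24 := hne24 K a
  have hcases : Nat.card (MulAction.orbit K a) = 1 ∨ Nat.card (MulAction.orbit K a) = 2 ∨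
      Nat.card (MulAction.orbit K a) = 12 ∨ Nat.card (MulAction.orbit K a) = 24 := by
    have hdvd : Nat.card (MulAction.orbit K a) ∣ 887040 := Dvd.intro _ hmul
    have : Nat.card (MulAction.orbit K a) ≠ 13 ∧ Nat.card (MulAction.orbit K a) ≠ 23 :=
      ⟨fun e => by rw [e] at hdvd; norm_num at hdvd, fun e => by rw [e] at hdvd; norm_num at hdvd⟩
    omega
  rcases hcases with h | h | h | h
  · exfalso
    rw [h, one_mul] at hmul
    have hd : Nat.card L ∣ 10200960 := by
      have hle : L ≤ (MulAction.stabilizer M24 a).map M24.subtype := fun g hg =>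
        Subgroup.mem_map.2 ⟨⟨g, hLM hg⟩, mem_stab_point.2 hg.2, rfl⟩
      have := Subgroup.card_dvd_of_le hle
      rwa [Subgroup.card_map_of_injective M24.subtype_injective, natCard_stab_point] at this
    rw [hmul] at hd
    norm_num at hd
  · obtain ⟨c, hc, hfixed⟩ := orbit_card_two h
    exact ⟨{a, c}, Finset.card_pair hc.symm, hfixed⟩
  · exfalso
    rw [h] at hmul
    -- the eleven other points of the orbit form an orbit of the stabilizer
    haveI : Fintype (MulAction.orbit K a) := Fintype.ofFinite _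
    set S := (MulAction.orbit K a).toFinset.erase a with hS
    have hScard : S.card = 11 := by
      rw [hS, Finset.card_erase_of_mem (Set.mem_toFinset.2 (MulAction.mem_orbit_self a)),
        ← Set.ncard_eq_toFinset_card', ← Nat.card_coe_set_eq, h]
    obtain ⟨c, hc⟩ := Finset.card_pos.1 (by omega : 0 < S.card)
    have hin : ∀ g ∈ L, g c ∈ S := by
      intro g hg
      rw [hS, Finset.mem_erase, Set.mem_toFinset] at hc ⊢
      refine ⟨fun e => hc.1 (g.injective (e.trans hg.2.symm)), ?_⟩
      obtain ⟨u, hu⟩ := hc.2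
      exact ⟨⟨g, hg.1⟩ * u, show g (u • a) = g c from congrArg g hu⟩
    have hbK : b ∉ MulAction.orbit K a := by
      intro hb
      have := hmod K hy a {a, b} fun r => by
        rw [Finset.mem_insert, Finset.mem_singleton]
        refine ⟨?_, fun h => huniq r h.2⟩
        rintro (rfl | rfl)
        exacts [⟨MulAction.mem_orbit_self _, hya⟩, ⟨hb, hyb⟩]
      rw [h, Finset.card_pair hab] at this
      omega
    have hnofix : ∀ r ∈ MulAction.orbit L c, y r ≠ r := by
      rintro r ⟨g, rfl⟩ hr
      have hgS := hin g g.2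
      rw [hS, Finset.mem_erase, Set.mem_toFinset] at hgS
      rcases huniq _ hr with e | e
      · exact hgS.1 e
      · exact hbK (e ▸ hgS.2)
    have h0 := hmod L hyL c ∅ fun r => by simpa using hnofix r
    have hle := hScard ▸ orbit_le hin
    have := hpos L c
    rw [Finset.card_empty] at h0
    exact no_orbit_eleven hLM (by omega) (by omega) c (by omega)
  · exfalso
    rw [h] at hmul
    have hLb : Nat.card (MulAction.orbit L b) % 11 = 1 := by
      rw [hmod L hyL b {b} fun r => ?_, Finset.card_singleton]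
      rw [Finset.mem_singleton]
      refine ⟨?_, fun h' => (huniq r h'.2).resolve_left fun e => ?_⟩
      · rintro rfl; exact ⟨MulAction.mem_orbit_self _, hyb⟩
      obtain ⟨g, hg⟩ := h'.1
      exact hab ((g : Equiv.Perm GolayPt).injective (g.2.2.trans (hg.trans e).symm))
    have hmulL := card_eq_orbit_mul L b
    have h24L : Nat.card (MulAction.orbit L b) ≤ 23 := by
      refine (orbit_le (S := Finset.univ.erase a) fun g hg => Finset.mem_erase.2 ⟨fun e => ?_, Finset.mem_univ _⟩).trans
        (le_of_eq (by rw [Finset.card_erase_of_mem (Finset.mem_univ _)]; rfl))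
      exact hab (g.injective (hg.2.trans e.symm))
    have hcasesL : Nat.card (MulAction.orbit L b) = 1 ∨ Nat.card (MulAction.orbit L b) = 12 := by
      have hdvd : Nat.card (MulAction.orbit L b) ∣ 36960 := Dvd.intro _ (hmulL.trans (by omega))
      have : Nat.card (MulAction.orbit L b) ≠ 23 := fun e => by rw [e] at hdvd; norm_num at hdvd
      omega
    rcases hcasesL with h1 | h12
    · have hfixb : ∀ g ∈ L, g b = b := by
        intro g hg
        have hsub : Subsingleton (MulAction.orbit L b) := (Nat.card_eq_one_iff_unique.1 h1).1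
        exact congrArg Subtype.val (hsub.elim ⟨g b, ⟨⟨g, hg⟩, rfl⟩⟩ ⟨b, MulAction.mem_orbit_self b⟩)
      obtain ⟨c, hc, hc1, hc2⟩ := exists_map_pair hab
      have hle : L.map (MulAut.conj c⁻¹).toMonoidHom ≤ fixH M24 F22 := by
        rintro _ ⟨g, hg, rfl⟩
        refine mem_fix22_iff.2 ⟨mul_mem (mul_mem (inv_mem hc) (hLM hg)) (inv_mem (inv_mem hc)), ?_, ?_⟩
        · show (c⁻¹ * g * c⁻¹⁻¹) (pt 23) = pt 23
          rw [inv_inv, conj_apply_eq_iff hc1]; exact hg.2
        · show (c⁻¹ * g * c⁻¹⁻¹) (pt 0) = pt 0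
          rw [inv_inv, conj_apply_eq_iff hc2]; exact hfixb g hg
      refine (no_small_index22 _ hle).1 ?_
      rw [Subgroup.card_map_of_injective (MulAut.conj c⁻¹).injective]
      omega
    · haveI : Fintype (MulAction.orbit L b) := Fintype.ofFinite _
      set S := ((Finset.univ : Finset GolayPt).erase a) \ (MulAction.orbit L b).toFinset with hS
      have hScard : S.card = 11 := by
        rw [hS, Finset.card_sdiff_of_subset, Finset.card_erase_of_mem (Finset.mem_univ _),
          ← Set.ncard_eq_toFinset_card', ← Nat.card_coe_set_eq, h12]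
        · rfl
        intro r hr
        rw [Set.mem_toFinset] at hr
        obtain ⟨g, rfl⟩ := hr
        exact Finset.mem_erase.2 ⟨fun e => hab ((g : Equiv.Perm GolayPt).injective (g.2.2.trans e.symm)), Finset.mem_univ _⟩
      obtain ⟨c, hc⟩ := Finset.card_pos.1 (by omega : 0 < S.card)
      have hin : ∀ g ∈ L, g c ∈ S := by
        intro g hg
        rw [hS, Finset.mem_sdiff, Finset.mem_erase, Set.mem_toFinset] at hc ⊢
        refine ⟨⟨fun e => hc.1.1 (g.injective (e.trans hg.2.symm)), Finset.mem_univ _⟩, fun hgc => hc.2 ?_⟩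
        obtain ⟨u, hu⟩ := hgc
        exact ⟨(⟨g, hg⟩ : L)⁻¹ * u, by
          show ((⟨g, hg⟩ : L)⁻¹ * u) • b = c
          rw [mul_smul, show u • b = g c from hu, inv_smul_eq_iff]
          rfl⟩
      have hnofix : ∀ r ∈ MulAction.orbit L c, y r ≠ r := by
        rintro r ⟨g, rfl⟩ hr
        have hgS := hin g g.2
        rw [hS, Finset.mem_sdiff, Finset.mem_erase, Set.mem_toFinset] at hgS
        rcases huniq _ hr with e | e
        · exact hgS.1.1 e
        · exact hgS.2 (by rw [show (g : Equiv.Perm GolayPt) c = b from e]; exact MulAction.mem_orbit_self b)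
      have h0 := hmod L hyL c ∅ fun r => by simpa using hnofix r
      have hle := hScard ▸ orbit_le hin
      have := hpos L c
      rw [Finset.card_empty] at h0
      exact no_orbit_eleven hLM (by omega) (by omega) c (by omega)

theorem index_duad {H : Subgroup ↥M24} (hH : H.index = 276) :
    ∃ s : Finset GolayPt, s.card = 2 ∧ H = MulAction.stabilizer M24 s := by
  have hcard : Nat.card (H.map M24.subtype) = 887040 := by
    rw [Subgroup.card_map_of_injective M24.subtype_injective]
    have := H.card_mul_index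
    rw [hH, natCard_M24] at this
    omega
  obtain ⟨s, hs, hfix⟩ := fixes_duad (Subgroup.map_subtype_le H) hcard
  refine ⟨s, hs, Subgroup.eq_of_le_of_card_ge (fun g hg => mem_stab_set.2 (hfix _ (Subgroup.mem_map_of_mem _ hg))) ?_⟩
  have h1 := (MulAction.stabilizer M24 s).card_mul_index
  have h2 := H.card_mul_index
  rw [index_stab_duad hs] at h1
  rw [hH] at h2
  omega

end CfsgLib.Golay.Over
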