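import Cfsg.Agent.S5394
import Cfsg.Agent.Lib.Golay.Systems.Maximal
import Cfsg.Agent.Lib.Golay.Systems.Sextets
import Cfsg.Agent.Lib.Golay.Systems.OctadPairs
import Cfsg.Agent.Lib.Golay.Overgroups.Gen0
import Cfsg.Agent.Lib.Golay.Overgroups.Gen1
import Cfsg.Agent.Lib.Golay.Overgroups.Gen2
import Cfsg.Agent.Lib.Golay.Overgroups.Gen3
import Cfsg.Agent.Lib.Golay.Overgroups.Gen4
import Cfsg.Agent.Lib.Golay.Overgroups.Gen5
import Cfsg.Agent.Lib.Golay.Overgroups.Gen6
import Cfsg.Agent.Lib.Golay.Overgroups.Gen7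
import Cfsg.Agent.Lib.Golay.Overgroups.Gen8
import Cfsg.Agent.Lib.Golay.Overgroups.Gen9

/-!
Checks for the overgroups of a Sylow 2-subgroup.
-/

set_option autoImplicit false
set_option maxRecDepth 20000
set_option Elab.async false

namespace CfsgLib.Golay.Over

open Cfsg CfsgLib.Golay.SylowTwo
open scoped Pointwise

/-- a word in the generators applied to a mask -/
def applyWord (w : List ℕ) (m : ℕ) : ℕ := w.foldr (fun i x => mimg (sylGens.getD i 0) x) m

theorem syl_gen_checks : (sylGens.all fun P => inM24 P && mimg P sylOct == sylOct) = true ∧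
    sylGens = Cfsg.Agent.S5170.data.gens := by decide +kernel

theorem syl_fix_checks : inM24 sylMove = true ∧ mimg sylMove oct0 = sylOct ∧ sylFixIdx.length = trans6.length ∧
    ∀ z ∈ trans6.zip sylFixIdx, eqP (mulP sylMove z.1) (mulP ((els sylGens).getD z.2 idP) sylMove) = true := by
  refine ⟨?_, ?_, ?_, List.all_eq_true.1 ?_⟩ <;> decide +kernel

theorem syl_w_checks : (sylW.all fun a => sylW.all fun b => pop 24 (a &&& b) != 4 || sylSext.contains (a &&& b)) = true ∧
    sextTree.objs.any (fun u => setEq u sylSext) = true := by decide +kernel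

theorem syl_rep_checks : ((sylReps.zip sylExt).all fun t => inM24 t.2 && fixes t.2 t.1) = true ∧
    sylReps.length = 10 ∧ sylExt.length = 10 := by decide +kernel

theorem syl_word_checks : (sylWords.all fun t => decide (t.2.1 < 10) && t.2.2.all (fun i => decide (i < 10)) &&
    applyWord t.2.2 (sylReps.getD t.2.1 0) == t.1) = true ∧ sylGens.length = 10 := by decide +kernel

theorem no_two : ∀ a ∈ sylW, ∀ b ∈ sylW, pop 24 (a &&& b) ≠ 2 := by decide +kernel

theorem syl_cover : (octLit.all fun o => sylW.contains o || sylWords.any fun t => t.1 == o) = true := by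
  decide +kernel

theorem gen_all : ∀ j < 10, ∃ prog pick,
    genOK (sylGens ++ [sylExt.getD j 0]) prog pick = true := by
  intro j hj
  interval_cases j
  · exact ⟨_, _, gen0_ok⟩
  · exact ⟨_, _, gen1_ok⟩
  · exact ⟨_, _, gen2_ok⟩
  · exact ⟨_, _, gen3_ok⟩
  · exact ⟨_, _, gen4_ok⟩
  · exact ⟨_, _, gen5_ok⟩
  · exact ⟨_, _, gen6_ok⟩
  · exact ⟨_, _, gen7_ok⟩
  · exact ⟨_, _, gen8_ok⟩
  · exact ⟨_, _, gen9_ok⟩

end CfsgLib.Golay.Over
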