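import Cfsg.Agent.Lib.Golay.Overgroups.OddChecks

/-!
Subgroups of odd index: they fix an octad, a sextet or a trio.
-/

set_option autoImplicit false
set_option maxRecDepth 20000

namespace CfsgLib.Golay.Over

open Cfsg CfsgLib.Golay.SylowTwo
open scoped Pointwise

/-- the Sylow subgroup -/
noncomputable abbrev syl : Subgroup (Equiv.Perm GolayPt) := HS sylGens

theorem syl_mem {P : ℕ} (hP : P ∈ sylGens) :
    validP P = true ∧ toPerm P ∈ syl ∧ toPerm P ∈ M24 ∧ toPerm P • dec sylOct = dec sylOct := by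
  have h := List.all_eq_true.1 syl_gen_checks.1 P hP
  rw [Bool.and_eq_true, beq_iff_eq] at h
  have hv : validP P = true := by
    have := h.1; simp only [inM24, Bool.and_eq_true] at this; exact this.1
  exact ⟨hv, Subgroup.subset_closure ⟨P, hP, rfl⟩, toPerm_mem_M24 h.1, by rw [smul_dec hv]; exact congrArg dec h.2⟩

theorem syl_le : syl ≤ M24 := (Subgroup.closure_le _).2 (by rintro _ ⟨P, hP, rfl⟩; exact (syl_mem hP).2.2.1)

theorem card_syl : Nat.card syl = 2 ^ 10 := by
  obtain ⟨hpc, -⟩ := Cfsg.Agent.S5394.invs_chk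
  rw [← syl_gen_checks.2] at hpc
  show Nat.card (HS sylGens) = _
  rw [card_HS hpc, syl_word_checks.2]

theorem sylOct_mem : dec sylOct ∈ octads := by
  have hv : validP sylMove = true := by
    have := syl_fix_checks.1; simp only [inM24, Bool.and_eq_true] at this; exact this.1
  rw [← syl_fix_checks.2.1, ← smul_dec hv]
  exact smul_mem_octads (toPerm_mem_M24 syl_fix_checks.1) oct0_mem

/-- transport of a pointwise stabilizer check along a conjugating permutation -/
theorem conj_fix_mem {gs T idx : List ℕ} {k t : ℕ} (hk : inM24 k = true) (ht : mimg k oct0 = t)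
    (hlen : idx.length = T.length) (hgs : ∀ g ∈ gs, validP g = true)
    (hT : ∀ {g : Equiv.Perm GolayPt}, g ∈ fixH M24 F6 → ∃ P ∈ T, validP P = true ∧ g = toPerm P)
    (hall : ∀ z ∈ T.zip idx, eqP (mulP k z.1) (mulP ((els gs).getD z.2 idP) k) = true)
    {x : Equiv.Perm GolayPt} (hx : x ∈ M24) (hfix : ∀ p ∈ dec t, x p = p) : x ∈ HS gs := by
  have hv : validP k = true := by
    have := hk; simp only [inM24, Bool.and_eq_true] at this; exact this.1
  have hmem : (toPerm k)⁻¹ * x * toPerm k ∈ fixH M24 F6 := by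
    rw [← fix_oct0_eq]
    refine Subgroup.mem_inf.2 ⟨mul_mem (mul_mem (inv_mem (toPerm_mem_M24 hk)) hx) (toPerm_mem_M24 hk), ?_⟩
    rw [mem_fixingSubgroup_iff]
    intro p hp
    show ((toPerm k)⁻¹ * x * toPerm k) p = p
    have hp' : toPerm k p ∈ dec t := by
      rw [← ht, ← smul_dec hv]; exact Finset.smul_mem_smul_finset hp
    simp only [Equiv.Perm.mul_apply, hfix _ hp']
    exact (toPerm k).symm_apply_apply p
  obtain ⟨P, hP, hvP, heq⟩ := hT hmem
  obtain ⟨i, hi, rfl⟩ := List.getElem_of_mem hP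
  have hi' : i < idx.length := by omega
  have hz : (T[i], idx[i]) ∈ T.zip idx := List.mem_iff_getElem.2
    ⟨i, by rw [List.length_zip]; omega, List.getElem_zip⟩
  have hget : validP ((els gs).getD idx[i] idP) = true ∧
      toPerm ((els gs).getD idx[i] idP) ∈ HS gs := by
    rcases getD_els_mem (gs := gs) idx[i] with h' | h'
    · exact els_mem hgs _ h'
    · rw [h']; exact ⟨validP_idP, toPerm_idP ▸ one_mem _⟩
  have h := hall _ hz
  dsimp only at h
  have := toPerm_eq_of_eqP (validP_mulP hv hvP) (validP_mulP hget.1 hv) h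
  rw [toPerm_mulP hv hvP, toPerm_mulP hget.1 hv, ← heq, ← mul_assoc, ← mul_assoc, mul_inv_cancel, one_mul,
    mul_left_inj] at this
  rw [this]; exact hget.2

theorem fix_sylOct_le {x : Equiv.Perm GolayPt} (hx : x ∈ M24) (hfix : ∀ p ∈ dec sylOct, x p = p) : x ∈ syl :=
  conj_fix_mem syl_fix_checks.1 syl_fix_checks.2.1 syl_fix_checks.2.2.1 (fun _ hg => (syl_mem hg).1)
    (fun hg => mem_fixF6 hg) syl_fix_checks.2.2.2 hx hfix

theorem smul_applyWord : ∀ (w : List ℕ) (m : ℕ), (∀ i ∈ w, i < sylGens.length) →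
    ∃ s ∈ syl, s • dec m = dec (applyWord w m) := by
  intro w m hw
  induction w with
  | nil => exact ⟨1, one_mem _, one_smul _ _⟩
  | cons i w ih =>
    simp only [List.mem_cons, forall_eq_or_imp] at hw
    obtain ⟨s, hs, he⟩ := ih hw.2
    have hP : sylGens.getD i 0 ∈ sylGens := by
      rw [List.getD_eq_getElem?_getD, List.getElem?_eq_getElem hw.1]; exact List.getElem_mem hw.1
    refine ⟨toPerm (sylGens.getD i 0) * s, mul_mem (syl_mem hP).2.1 hs, ?_⟩
    rw [mul_smul, he, smul_dec (syl_mem hP).1]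
    rfl

/-- a subgroup above the Sylow subgroup moves its octad only inside the fifteen, or is everything -/
theorem orbit_in_W {K : Subgroup (Equiv.Perm GolayPt)} (hK : K ≤ M24) (hS : syl ≤ K) :
    K = M24 ∨ ∀ h ∈ K, ∃ m ∈ sylW, dec m = h • dec sylOct := by
  by_cases hall : ∀ h ∈ K, ∃ m ∈ sylW, dec m = h • dec sylOct
  · exact Or.inr hall
  refine Or.inl ?_
  push Not at hall
  obtain ⟨h, hh, hno⟩ := hall
  obtain ⟨m, hm, -, he⟩ := octad_mask (smul_mem_octads (hK hh) sylOct_mem)
  have hc := List.all_eq_true.1 syl_cover m hm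
  simp only [Bool.or_eq_true, List.contains_iff_mem, List.any_eq_true, beq_iff_eq] at hc
  obtain ⟨t, ht, hta⟩ := hc.resolve_left fun hw => hno m hw he
  have hw := List.all_eq_true.1 syl_word_checks.1 t ht
  simp only [Bool.and_eq_true, decide_eq_true_eq, List.all_eq_true, beq_iff_eq] at hw
  obtain ⟨⟨hj, hword⟩, happ⟩ := hw
  obtain ⟨s, hs, hse⟩ := smul_applyWord t.2.2 (sylReps.getD t.2.1 0) (fun i hi => by
    rw [syl_word_checks.2]; exact hword i hi)
  rw [happ, hta, he] at hse
  obtain ⟨hrep, hl1, hl2⟩ := syl_rep_checks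
  set r := sylReps.getD t.2.1 0 with hr
  set e := sylExt.getD t.2.1 0 with he'
  have hre : (r, e) ∈ sylReps.zip sylExt := by
    rw [hr, he', List.getD_eq_getElem?_getD, List.getD_eq_getElem?_getD,
      List.getElem?_eq_getElem (by omega : t.2.1 < sylReps.length),
      List.getElem?_eq_getElem (by omega : t.2.1 < sylExt.length)]
    exact List.mem_iff_getElem.2 ⟨t.2.1, by rw [List.length_zip]; omega, List.getElem_zip⟩
  have hc2 := List.all_eq_true.1 hrep _ hre
  rw [Bool.and_eq_true] at hc2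
  have hve : validP e = true := by
    have := hc2.1; simp only [inM24, Bool.and_eq_true] at this; exact this.1
  set a := s⁻¹ * h with ha
  have haK : a ∈ K := mul_mem (inv_mem (hS hs)) hh
  have har : a • dec sylOct = dec r := by rw [ha, mul_smul, ← hse, inv_smul_smul]
  have hmem : a⁻¹ * toPerm e * a ∈ syl := by
    refine fix_sylOct_le (mul_mem (mul_mem (inv_mem (hK haK)) (toPerm_mem_M24 hc2.1)) (hK haK)) fun p hp => ?_
    have hp' : a p ∈ dec r := har ▸ Finset.smul_mem_smul_finset hp
    simp only [Equiv.Perm.mul_apply, fixes_apply hve hc2.2 hp']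
    simp
  have heK : toPerm e ∈ K := by
    have := mul_mem (mul_mem haK (hS hmem)) (inv_mem haK)
    rwa [show a * (a⁻¹ * toPerm e * a) * a⁻¹ = toPerm e by group] at this
  obtain ⟨prog, pick, hok⟩ := gen_all t.2.1 hj
  exact eq_M24_of_genOK hK hok fun P hP => by
    rcases List.mem_append.1 hP with hP | hP
    · exact hS (syl_mem hP).2.1
    · rw [List.mem_singleton.1 hP]; exact heK

theorem sylSext_mem : objF sylSext ∈ sextets := by
  obtain ⟨u, hu, he⟩ := List.any_eq_true.1 syl_w_checks.2
  rw [← setEq_objF he]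
  exact (objF_mem_sextets hu).1

/-- transitivity on trios -/
theorem exists_smul_trio {T : Finset (Finset GolayPt)} (hT : T ∈ trios) :
    ∃ g ∈ M24, g • objF trOctRef = T := by
  have href : octTrRef = [oct0] := by decide +kernel
  have hne : T.Nonempty := Finset.card_pos.1 (by rw [hT.1]; norm_num)
  obtain ⟨o, ho⟩ := hne
  obtain ⟨g, hg, hgo⟩ := exists_smul_oct0 (hT.2.1 o ho)
  have hT' := smul_mem_trios (inv_mem hg) hT
  have ho' : dec oct0 ∈ g⁻¹ • T := by
    have := Finset.smul_mem_smul_finset (a := g⁻¹) ho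
    rwa [← hgo, inv_smul_smul] at this
  have hR : ((1 : Equiv.Perm GolayPt) • objF octTrRef) = ({dec oct0} : Finset (Finset GolayPt)) := by
    rw [one_smul, href, objF_singleton]
  obtain ⟨a, ha, -, haT⟩ := trioFam.trans_class octTr_ok.2.2.1 (one_mem M24)
    (X := objF trOctRef) (Y := g⁻¹ • T)
    ⟨ref_trio.1, by rw [hR]; exact sigF_trio_of_mem ref_trio.1 ref_trio.2⟩
    ⟨hT', by rw [hR]; exact sigF_trio_of_mem hT' ho'⟩
  exact ⟨g * a, mul_mem hg ha, by rw [mul_smul, haT, smul_inv_smul]⟩

theorem index_stab_trio {T : Finset (Finset GolayPt)} (hT : T ∈ trios) :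
    (MulAction.stabilizer M24 T).index = 3795 := by
  rw [MulAction.index_stabilizer]
  have : MulAction.orbit M24 T = trios := by
    ext X
    constructor
    · rintro ⟨g, rfl⟩; exact smul_mem_trios g.2 hT
    · intro hX
      obtain ⟨a, ha, rfl⟩ := exists_smul_trio hT
      obtain ⟨b, hb, rfl⟩ := exists_smul_trio hX
      exact ⟨⟨b * a⁻¹, mul_mem hb (inv_mem ha)⟩, by
        show (b * a⁻¹) • a • objF trOctRef = b • objF trOctRef
        rw [mul_smul, inv_smul_smul]⟩
  rw [this]
  refine trioFam.ncard_sets.trans ?_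
  show trioTree.objs.length = 3795
  decide +kernel

theorem exists_smul_sextet {S S' : Finset (Finset GolayPt)} (hS : S ∈ sextets) (hS' : S' ∈ sextets) :
    ∃ g ∈ M24, g • S = S' := by
  obtain ⟨t, ht⟩ := Finset.card_pos.1 (by rw [hS.1]; norm_num : 0 < S.card)
  obtain ⟨t', ht'⟩ := Finset.card_pos.1 (by rw [hS'.1]; norm_num : 0 < S'.card)
  obtain ⟨a, ha, hae⟩ := exists_map_base_four (hS.2.1 t ht)
  obtain ⟨b, hb, hbe⟩ := exists_map_base_four (hS'.2.1 t' ht')
  refine ⟨b * a⁻¹, mul_mem hb (inv_mem ha), ?_⟩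
  refine sextet_unique (smul_mem_sextets (mul_mem hb (inv_mem ha)) hS) hS' ?_ ht'
  have := Finset.smul_mem_smul_finset (a := b * a⁻¹) ht
  have e : (b * a⁻¹) • t = t' := by rw [← hae, mul_smul, inv_smul_smul, hbe]
  rwa [e] at this

theorem index_stab_sextet {S : Finset (Finset GolayPt)} (hS : S ∈ sextets) :
    (MulAction.stabilizer M24 S).index = 1771 := by
  rw [MulAction.index_stabilizer]
  have : MulAction.orbit M24 S = sextets := by
    ext X
    constructor
    · rintro ⟨g, rfl⟩; exact smul_mem_sextets g.2 hS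
    · intro hX
      obtain ⟨g, hg, rfl⟩ := exists_smul_sextet hS hX
      exact ⟨⟨g, hg⟩, rfl⟩
  rw [this]
  refine sextFam.ncard_sets.trans ?_
  show sextTree.objs.length = 1771
  decide +kernel

theorem index_stab_octad {o : Finset GolayPt} (ho : o ∈ octads) : (MulAction.stabilizer M24 o).index = 759 := by
  have h := (MulAction.stabilizer M24 o).card_mul_index
  rw [natCard_stab_octad ho, natCard_M24] at h
  omega

theorem eq_of_index {L L' : Subgroup ↥M24} (hle : L ≤ L') (h : L.index = L'.index) : L = L' := by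
  refine le_antisymm hle (Subgroup.relIndex_eq_one.1 ?_)
  have := Subgroup.relIndex_mul_index hle
  have hpos : 0 < L'.index := Nat.pos_of_ne_zero Subgroup.index_ne_zero_of_finite
  rw [h] at this
  exact Nat.eq_of_mul_eq_mul_right hpos (this.trans (one_mul _).symm)

theorem smul_eq_coe {X : Type*} [MulAction (Equiv.Perm GolayPt) X] (g : ↥M24) (x : X) :
    g • x = (g : Equiv.Perm GolayPt) • x := rfl

theorem odd_index_based {H : Subgroup ↥M24} (hS : syl.subgroupOf M24 ≤ H) (hne : H ≠ ⊤) :
    (∃ o ∈ octads, H ≤ MulAction.stabilizer M24 o) ∨ (∃ S ∈ sextets, H ≤ MulAction.stabilizer M24 S) ∨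
      ∃ T ∈ trios, H ≤ MulAction.stabilizer M24 T := by
  classical
  set K := H.map M24.subtype with hKdef
  have hKM : K ≤ M24 := Subgroup.map_subtype_le H
  have hSK : syl ≤ K := fun x hx => Subgroup.mem_map.2 ⟨⟨x, syl_le hx⟩, hS hx, rfl⟩
  have hW : ∀ h ∈ H, ∃ m ∈ sylW, dec m = (h : Equiv.Perm GolayPt) • dec sylOct := by
    rcases orbit_in_W hKM hSK with e | e
    · refine absurd ((Subgroup.eq_top_iff' H).2 fun x => ?_) hne
      have : (x : Equiv.Perm GolayPt) ∈ K := by rw [e]; exact x.2
      obtain ⟨y, hy, hyx⟩ := Subgroup.mem_map.1 this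
      exact (Subtype.ext hyx : y = x) ▸ hy
    · exact fun h hh => e _ (Subgroup.mem_map_of_mem _ hh)
  have hlt : ∀ m ∈ sylW, m < 2 ^ 24 := by decide +kernel
  have hin : ∀ {m m' : ℕ}, m ∈ sylW → m' ∈ sylW → (dec m ∩ dec m').card = 4 →
      dec m ∩ dec m' ∈ objF sylSext := by
    intro m m' hm hm' h4
    have h := List.all_eq_true.1 (List.all_eq_true.1 syl_w_checks.1 m hm) m' hm'
    simp only [Bool.or_eq_true, bne_iff_ne, List.contains_iff_mem] at h
    rw [← dec_and] at h4 ⊢
    rw [card_dec_eq_pop] at h4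
    simp only [objF, List.mem_toFinset]
    exact List.mem_map_of_mem (h.resolve_left fun hne => hne h4)
  by_cases hpair : ∃ a ∈ H, ∃ b ∈ H,
      ((a : Equiv.Perm GolayPt) • dec sylOct ∩ (b : Equiv.Perm GolayPt) • dec sylOct).card = 4
  · obtain ⟨a, ha, b, hb, h4⟩ := hpair
    refine Or.inr (Or.inl ⟨_, sylSext_mem, fun h hh => MulAction.mem_stabilizer_iff.2 ?_⟩)
    show (h : Equiv.Perm GolayPt) • objF sylSext = objF sylSext
    obtain ⟨m, hm, em⟩ := hW a ha
    obtain ⟨m', hm', em'⟩ := hW b hb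
    obtain ⟨n, hn, en⟩ := hW (h * a) (mul_mem hh ha)
    obtain ⟨n', hn', en'⟩ := hW (h * b) (mul_mem hh hb)
    rw [← em, ← em'] at h4
    have ht := hin hm hm' h4
    have h4' : (dec n ∩ dec n').card = 4 := by
      rw [en, en', Subgroup.coe_mul, Subgroup.coe_mul, mul_smul, mul_smul, smul_card_inter, ← em, ← em']
      exact h4
    refine sextet_unique (smul_mem_sextets h.2 sylSext_mem) sylSext_mem (t := dec n ∩ dec n') ?_ (hin hn hn' h4')
    rw [en, en', Subgroup.coe_mul, Subgroup.coe_mul, mul_smul, mul_smul, ← Finset.smul_finset_inter, ← em, ← em']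
    exact Finset.smul_mem_smul_finset ht
  · push Not at hpair
    set O := dec sylOct with hO
    have hfin : (MulAction.orbit H O).Finite := Set.toFinite _
    set F := hfin.toFinset with hF
    have hmem : ∀ X, X ∈ F ↔ ∃ h ∈ H, (h : Equiv.Perm GolayPt) • O = X := by
      intro X
      rw [hF, Set.Finite.mem_toFinset, MulAction.mem_orbit_iff]
      exact ⟨fun ⟨h, e⟩ => ⟨h.1, h.2, e⟩, fun ⟨h, hh, e⟩ => ⟨⟨h, hh⟩, e⟩⟩
    have hFo : ∀ X ∈ F, X ∈ octads := fun X hX => by
      obtain ⟨h, -, rfl⟩ := (hmem X).1 hX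
      exact smul_mem_octads h.2 sylOct_mem
    have hdisj : ∀ X ∈ F, ∀ Y ∈ F, X ≠ Y → Disjoint X Y := by
      intro X hX Y hY hXY
      obtain ⟨a, ha, rfl⟩ := (hmem X).1 hX
      obtain ⟨b, hb, rfl⟩ := (hmem Y).1 hY
      have h8 := octad_cases (hFo _ hX) (hFo _ hY) hXY
      rw [Finset.disjoint_iff_inter_eq_empty, ← Finset.card_eq_zero]
      rcases h8 with h | h | h
      · exact h
      · exfalso
        obtain ⟨m, hm, em⟩ := hW a ha
        obtain ⟨m', hm', em'⟩ := hW b hb
        have hc := no_two _ hm _ hm'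
        rw [← card_inter_dec, em, em'] at hc
        exact hc h
      · exact absurd h (hpair a ha b hb)
    have hcard : F.card * 8 ≤ 24 := by
      have h1 : (F.biUnion fun X => X).card = F.card * 8 := by
        rw [Finset.card_biUnion (fun X hX Y hY h => hdisj X hX Y hY h),
          Finset.sum_congr rfl (g := fun _ => 8) fun X hX => (hFo X hX).2, Finset.sum_const, smul_eq_mul]
      rw [← h1]
      exact (Finset.card_le_univ _).trans (le_of_eq (by simp))
    have hdvd : F.card ∣ 239085 := by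
      have h1 : F.card = (MulAction.stabilizer H O).index := by
        rw [MulAction.index_stabilizer, hF, ← Set.ncard_eq_toFinset_card]
      have h2 : (MulAction.stabilizer H O).index * Nat.card (MulAction.stabilizer H O) = Nat.card H := by
        rw [mul_comm, Subgroup.card_mul_index]
      have h3 : Nat.card H ∣ 2 ^ 10 * 239085 := by
        have := H.card_subgroup_dvd_card
        rwa [natCard_M24, show (244823040 : ℕ) = 2 ^ 10 * 239085 by norm_num] at this
      have h4 : 2 ^ 10 ∣ Nat.card (MulAction.stabilizer H O) := by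
        rw [← card_syl]
        have hmemS : ∀ x : syl, (⟨⟨x.1, syl_le x.2⟩, hS x.2⟩ : H) ∈ MulAction.stabilizer H O := by
          intro x
          show (x : Equiv.Perm GolayPt) • O = O
          have : syl ≤ MulAction.stabilizer (Equiv.Perm GolayPt) O := (Subgroup.closure_le _).2
            (by rintro _ ⟨P, hP, rfl⟩; exact (syl_mem hP).2.2.2)
          exact this x.2
        exact Subgroup.card_dvd_of_injective
          ({ toFun := fun x => ⟨⟨⟨x.1, syl_le x.2⟩, hS x.2⟩, hmemS x⟩
             map_one' := rfl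
             map_mul' := fun x y => rfl } : syl →* MulAction.stabilizer H O)
          (fun x y e => Subtype.ext (congrArg (fun z : MulAction.stabilizer H O => ((z : H) : Equiv.Perm GolayPt)) e))
      rw [h1]
      obtain ⟨c, hc⟩ := h4
      rw [← h2, hc] at h3
      have h5 : 2 ^ 10 * ((MulAction.stabilizer H O).index * c) ∣ 2 ^ 10 * 239085 := by
        rwa [← mul_assoc, mul_comm (2 ^ 10), mul_assoc]
      exact (Dvd.intro c rfl).trans (Nat.dvd_of_mul_dvd_mul_left (by norm_num) h5)
    have hpos : O ∈ F := (hmem O).2 ⟨1, one_mem _, one_smul _ _⟩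
    have hstab : ∀ h ∈ H, ∀ X ∈ F, (h : Equiv.Perm GolayPt) • X ∈ F := by
      intro h hh X hX
      obtain ⟨a, ha, rfl⟩ := (hmem X).1 hX
      exact (hmem _).2 ⟨h * a, mul_mem hh ha, by rw [Subgroup.coe_mul, mul_smul]⟩
    have hcases : F.card = 1 ∨ F.card = 3 := by
      have := Finset.card_pos.2 ⟨O, hpos⟩
      have : F.card ≠ 2 := fun e => by rw [e] at hdvd; norm_num at hdvd
      omega
    rcases hcases with h1 | h3
    · refine Or.inl ⟨O, sylOct_mem, fun h hh => MulAction.mem_stabilizer_iff.2 ?_⟩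
      obtain ⟨X, hX⟩ := Finset.card_eq_one.1 h1
      have := hstab h hh O hpos
      rw [hX, Finset.mem_singleton] at this hpos
      exact this.trans hpos.symm
    · refine Or.inr (Or.inr ⟨F, ⟨h3, hFo, hdisj⟩, fun h hh => MulAction.mem_stabilizer_iff.2 ?_⟩)
      show (h : Equiv.Perm GolayPt) • F = F
      refine Finset.eq_of_subset_of_card_le (fun X hX => ?_) (by rw [Finset.card_smul_finset])
      obtain ⟨Y, hY, rfl⟩ := Finset.mem_smul_finset.1 hX
      exact hstab h hh Y hY

/-- subgroups of index 759, 1771 or 253 -/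
theorem odd_index {H : Subgroup ↥M24} {n : ℕ} (hn : H.index = n) (hcases : n = 759 ∨ n = 1771 ∨ n = 253) :
    (n = 759 → ∃ o ∈ octads, H = MulAction.stabilizer M24 o) ∧
    (n = 1771 → ∃ S ∈ sextets, H = MulAction.stabilizer M24 S) ∧ n ≠ 253 := by
  haveI : Fact (Nat.Prime 2) := ⟨Nat.prime_two⟩
  have hcardS : Nat.card (syl.subgroupOf M24) = 2 ^ (Nat.card ↥M24).factorization 2 := by
    rw [Nat.card_congr (Subgroup.subgroupOfEquivOfLe syl_le).toEquiv, card_syl, natCard_M24]
    have : (244823040 : ℕ).factorization 2 = 10 := by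
      rw [show (244823040 : ℕ) = 2 ^ 10 * 239085 by norm_num, Nat.factorization_mul (by norm_num) (by norm_num),
        Finsupp.add_apply, Nat.factorization_pow, Nat.factorization_eq_zero_of_not_dvd (by norm_num : ¬ 2 ∣ 239085)]
      simp [(Nat.prime_two).factorization_self]
    rw [this]
  obtain ⟨P⟩ := (inferInstance : Nonempty (Sylow 2 H))
  have hP2 : IsPGroup 2 ↥((P : Subgroup H).map H.subtype) := P.2.map _
  obtain ⟨Q, hQ⟩ := hP2.exists_le_sylow
  have hPQ : (P : Subgroup H).map H.subtype = (Q : Subgroup ↥M24) := by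
    refine Subgroup.eq_of_le_of_card_ge hQ ?_
    rw [Subgroup.card_map_of_injective H.subtype_injective, P.card_eq_multiplicity, Q.card_eq_multiplicity]
    refine Nat.pow_le_pow_right (by norm_num) (le_of_eq ?_)
    have hmul := H.card_mul_index
    have hodd : ¬ 2 ∣ H.index := by rw [hn]; omega
    rw [← hmul, Nat.factorization_mul Nat.card_pos.ne' Subgroup.index_ne_zero_of_finite, Finsupp.add_apply,
      Nat.factorization_eq_zero_of_not_dvd hodd, add_zero]
  obtain ⟨g, hg⟩ := MulAction.exists_smul_eq ↥M24 Q (Sylow.ofCard (syl.subgroupOf M24) hcardS)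
  set H' : Subgroup ↥M24 := H.map (MulAut.conj g).toMonoidHom with hH'
  have hS : syl.subgroupOf M24 ≤ H' := by
    have h := congrArg (fun R : Sylow 2 ↥M24 => (R : Subgroup ↥M24)) hg
    simp only [Sylow.coe_subgroup_smul] at h
    have h' : (Q : Subgroup ↥M24).map (MulAut.conj g).toMonoidHom = syl.subgroupOf M24 := h
    rw [← h', ← hPQ]
    exact Subgroup.map_mono (Subgroup.map_subtype_le _)
  have hidx : H'.index = n := by
    rw [hH', Subgroup.index_map_of_bijective (MulAut.conj g).bijective, hn]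
  have hne : H' ≠ ⊤ := fun e => by rw [e, Subgroup.index_top] at hidx; omega
  have hback : ∀ {X : Type} [MulAction (Equiv.Perm GolayPt) X] (x : X), H' = MulAction.stabilizer M24 x →
      H = MulAction.stabilizer M24 ((g⁻¹ : ↥M24) • x) := by
    intro X _ x he
    rw [MulAction.stabilizer_smul_eq_stabilizer_map_conj, ← he, hH', Subgroup.map_map]
    refine Eq.symm (Eq.trans ?_ (Subgroup.map_id H))
    congr 1
    ext y
    simp [mul_assoc]
  have hdv : ∀ {L : Subgroup ↥M24}, H' ≤ L → L.index ∣ n := fun hle => hidx ▸ Subgroup.index_dvd_of_le hle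
  rcases odd_index_based hS hne with ⟨o, ho, hle⟩ | ⟨S, hSx, hle⟩ | ⟨T, hT, hle⟩
  · have hd := hdv hle
    rw [index_stab_octad ho] at hd
    have hn' : n = 759 := by rcases hcases with rfl | rfl | rfl <;> first | rfl | norm_num at hd
    exact ⟨fun _ => ⟨_, smul_mem_octads (g⁻¹ : ↥M24).2 ho, hback o (eq_of_index hle (by
      rw [hidx, index_stab_octad ho, hn']))⟩, fun e => by omega, by omega⟩
  · have hd := hdv hle
    rw [index_stab_sextet hSx] at hd
    have hn' : n = 1771 := by rcases hcases with rfl | rfl | rfl <;> first | rfl | norm_num at hd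
    exact ⟨fun e => by omega, fun _ => ⟨_, smul_mem_sextets (g⁻¹ : ↥M24).2 hSx, hback S (eq_of_index hle (by
      rw [hidx, index_stab_sextet hSx, hn']))⟩, by omega⟩
  · have hd := hdv hle
    rw [index_stab_trio hT] at hd
    rcases hcases with rfl | rfl | rfl <;> norm_num at hd

end CfsgLib.Golay.Over
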