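import Cfsg.Agent.Lib.Golay.Overgroups.DuadIndex
import Cfsg.Agent.Lib.Golay.Systems.OctadPairs
import Cfsg.Agent.S5394

/-!
Subgroups of index 253 of a point stabilizer of the group of the code.
-/

set_option autoImplicit false
set_option maxRecDepth 20000
set_option linter.style.haveILetI false

namespace CfsgLib.Golay.Over

open Cfsg CfsgLib.Golay.Classes CfsgLib.Golay.Aut
open scoped Pointwise

/-- the group moves any five points to any five points -/
theorem exists_map_five (y z : List GolayPt) (hy : y.length = 5) (hyn : y.Nodup) (hz : z.length = 5)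
    (hzn : z.Nodup) : ∃ g ∈ M24, y.map g = z := by
  obtain ⟨a, ha, ha'⟩ := exists_map_base5 y hy hyn
  obtain ⟨b, hb, hb'⟩ := exists_map_base5 z hz hzn
  refine ⟨b * a⁻¹, mul_mem hb (inv_mem ha), ?_⟩
  rw [← ha', ← hb']
  simp [List.map_map, Function.comp_def]

/-- a list of five points beginning with two given ones, the rest in a given set -/
theorem exists_five {o : Finset GolayPt} {x : GolayPt} (ho : 5 ≤ o.card) (hx : x ∈ o) :
    ∃ l : List GolayPt, (x :: l).length = 5 ∧ (x :: l).Nodup ∧ ∀ p ∈ x :: l, p ∈ o := by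
  obtain ⟨t, ht, htc⟩ := Finset.exists_subset_card_eq (s := o.erase x) (n := 4)
    (by rw [Finset.card_erase_of_mem hx]; omega)
  refine ⟨t.toList, by simp [htc], List.nodup_cons.2 ⟨fun h => ?_, t.nodup_toList⟩, fun p hp => ?_⟩
  · exact (Finset.mem_erase.1 (ht (Finset.mem_toList.1 h))).1 rfl
  · rcases List.mem_cons.1 hp with rfl | h
    · exact hx
    · exact (Finset.mem_erase.1 (ht (Finset.mem_toList.1 h))).2

/-- the fixed points of an involution with fixed points form an octad -/
theorem fixSet_two_octad {g : Equiv.Perm GolayPt} (hg : g ∈ M24) (h2 : orderOf g = 2)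
    {p : GolayPt} (hp : g p = p) : fixSet g ∈ octads := by
  obtain ⟨k, hk, rfl | rfl⟩ := Cfsg.Agent.S5394.conj_rep hg h2
  · have h0 : fixSet (toPerm Cfsg.Agent.S5394.R0) = dec 1217620 := by
      ext q
      rw [mem_fixSet, Cfsg.Agent.S5394.fix_R0]
    rw [fixSet_conj, h0]
    refine smul_mem_octads hk ?_
    exact dec_mem_octads (by decide +kernel) (by decide +kernel)
  · exact absurd ((Cfsg.Agent.S5394.fix_conj _).1 hp) (Cfsg.Agent.S5394.fix_R1 _)

/-- the Sylow count at seven for a group fixing two points -/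
theorem count_seven {J : Subgroup (Equiv.Perm GolayPt)} (hJ : J ≤ M24) {x a : GolayPt} (hne : x ≠ a)
    (hfix : ∀ g ∈ J, g x = x ∧ g a = a) (h7 : 7 ∣ Nat.card J) :
    ∃ e n : ℕ, e ∣ 3 ∧ Nat.card J = n * (7 * e) ∧ n % 7 = 1 := by
  obtain ⟨c, hc, hc1, hc2⟩ := exists_map_pair hne
  set J' := J.map (MulAut.conj c⁻¹).toMonoidHom with hJ'
  have hle : J' ≤ fixH M24 F22 := by
    rintro _ ⟨g, hg, rfl⟩
    refine mem_fix22_iff.2 ⟨mul_mem (mul_mem (inv_mem hc) (hJ hg)) (inv_mem (inv_mem hc)), ?_, ?_⟩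
    · show (c⁻¹ * g * c⁻¹⁻¹) (pt 23) = pt 23
      rw [inv_inv, conj_apply_eq_iff hc1]; exact (hfix g hg).1
    · show (c⁻¹ * g * c⁻¹⁻¹) (pt 0) = pt 0
      rw [inv_inv, conj_apply_eq_iff hc2]; exact (hfix g hg).2
  have hcard : Nat.card (J'.subgroupOf (fixH M24 F22)) = Nat.card J := by
    rw [Nat.card_congr (Subgroup.subgroupOfEquivOfLe hle).toEquiv, hJ',
      Subgroup.card_map_of_injective (MulAut.conj c⁻¹).injective]
  obtain ⟨z, hz, hinv⟩ := selfCent7
  obtain ⟨e, n, he, hn, hmod⟩ := sylow_count hz (q := 3) rfl hinv _ (by rw [hcard]; exact h7)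
  exact ⟨e, n, he, by rw [← hcard]; exact hn, hmod⟩

theorem fix_seven {y : Equiv.Perm GolayPt} (hy : y ∈ M24) (ho : orderOf y = 7) : (fixSet y).card = 3 := by
  haveI : Fact (Nat.Prime 7) := ⟨by norm_num⟩
  have h := Equiv.Perm.card_compl_support_modEq (p := 7) (n := 1) (σ := y)
    (by rw [pow_one, ← ho, pow_orderOf_eq_one])
  have hs : y.supportᶜ = fixSet y := by ext q; simp [mem_fixSet]
  rw [hs, show Fintype.card GolayPt = 24 from rfl] at h
  have h9 : (fixSet y).card < 9 := by
    by_contra hge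
    have := fix_nine hy (not_lt.1 hge)
    rw [this, orderOf_one] at ho
    norm_num at ho
  unfold Nat.ModEq at h
  omega

/-- a subgroup of order 40320 fixing a point fixes a pair or an octad through it -/
theorem fixes_pair_or_octad {K : Subgroup (Equiv.Perm GolayPt)} (hK : K ≤ M24) {x : GolayPt}
    (hx : ∀ g ∈ K, g x = x) (hcard : Nat.card K = 40320) :
    (∃ s : Finset GolayPt, s.card = 2 ∧ x ∉ s ∧ ∀ g ∈ K, g • s = s) ∨
      ∃ o ∈ octads, x ∈ o ∧ ∀ g ∈ K, g • o = o := by
  classical
  haveI : Fact (Nat.Prime 7) := ⟨by norm_num⟩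
  obtain ⟨⟨y, hy⟩, hyo⟩ := exists_prime_orderOf_dvd_card' (G := K) 7 (by rw [hcard]; norm_num)
  rw [Subgroup.orderOf_mk] at hyo
  have hxfix : x ∈ fixSet y := mem_fixSet.2 (hx y hy)
  obtain ⟨a, b, hab, hfix⟩ := Finset.card_eq_two.1
    (show ((fixSet y).erase x).card = 2 by rw [Finset.card_erase_of_mem hxfix, fix_seven (hK hy) hyo])
  have hfix' : ∀ r, (r = a ∨ r = b) ↔ r ≠ x ∧ y r = r := fun r => by
    have h := Finset.ext_iff.1 hfix r
    rw [Finset.mem_erase, mem_fixSet, Finset.mem_insert, Finset.mem_singleton] at h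
    exact h.symm
  obtain ⟨hax, hya⟩ := (hfix' a).1 (Or.inl rfl)
  obtain ⟨hbx, hyb⟩ := (hfix' b).1 (Or.inr rfl)
  have hOx : ∀ r ∈ MulAction.orbit K a, r ≠ x := by
    rintro _ ⟨g, rfl⟩ e
    exact hax ((g : Equiv.Perm GolayPt).injective (e.trans (hx g g.2).symm))
  have hmod : ∀ F : Finset GolayPt, (∀ r, r ∈ F ↔ r ∈ MulAction.orbit K a ∧ y r = r) →
      Nat.card (MulAction.orbit K a) % 7 = F.card % 7 := by
    intro F hF
    refine (orbit_mod hy hyo a).trans (congrArg (· % 7) ?_)
    rw [← Nat.card_eq_finsetCard]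
    exact Nat.card_congr
      { toFun := fun r => ⟨r.1.1, (hF _).2 ⟨r.1.2, r.2⟩⟩
        invFun := fun r => ⟨⟨r.1, ((hF _).1 r.2).1⟩, ((hF _).1 r.2).2⟩
        left_inv := fun r => rfl
        right_inv := fun r => rfl }
  have hle23 : Nat.card (MulAction.orbit K a) ≤ 23 := by
    refine (orbit_le (S := Finset.univ.erase x) fun g hg => Finset.mem_erase.2 ⟨hOx _ ⟨⟨g, hg⟩, rfl⟩, Finset.mem_univ _⟩).trans
      (le_of_eq (by rw [Finset.card_erase_of_mem (Finset.mem_univ _)]; rfl))
  have hn : Nat.card (MulAction.orbit K a) % 7 = 1 ∨ Nat.card (MulAction.orbit K a) % 7 = 2 := by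
    by_cases hb : b ∈ MulAction.orbit K a
    · right
      rw [hmod {a, b} fun r => ?_, Finset.card_pair hab]
      rw [Finset.mem_insert, Finset.mem_singleton]
      refine ⟨?_, fun h => (hfix' r).2 ⟨hOx r h.1, h.2⟩⟩
      rintro (rfl | rfl)
      exacts [⟨MulAction.mem_orbit_self _, hya⟩, ⟨hb, hyb⟩]
    · left
      rw [hmod {a} fun r => ?_, Finset.card_singleton]
      rw [Finset.mem_singleton]
      refine ⟨?_, fun h => ((hfix' r).2 ⟨hOx r h.1, h.2⟩).resolve_right fun e => hb (e ▸ h.1)⟩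
      rintro rfl
      exact ⟨MulAction.mem_orbit_self _, hya⟩
  set L := K ⊓ MulAction.stabilizer (Equiv.Perm GolayPt) a with hL
  have hmul : Nat.card (MulAction.orbit K a) * Nat.card L = 40320 := (card_eq_orbit_mul K a).trans hcard
  have h7L : 7 ∣ Nat.card L := by
    rw [← hyo]
    exact Subgroup.orderOf_dvd_natCard L (Subgroup.mem_inf.2 ⟨hy, hya⟩)
  obtain ⟨e, n, he, hLn, hn1⟩ := count_seven (J := L) (inf_le_left.trans hK) (Ne.symm hax)
    (fun g hg => ⟨hx g hg.1, hg.2⟩) h7L
  have hcases : Nat.card (MulAction.orbit K a) = 2 ∨ Nat.card (MulAction.orbit K a) = 16 := by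
    rw [hLn] at hmul
    have hdvd : Nat.card (MulAction.orbit K a) ∣ 40320 := Dvd.intro _ hmul
    generalize Nat.card (MulAction.orbit K a) = m at *
    rcases (Nat.dvd_prime Nat.prime_three).1 he with rfl | rfl <;> interval_cases m <;> omega
  rcases hcases with h2 | h16
  · obtain ⟨c, hca, hc⟩ := orbit_card_two h2
    refine Or.inl ⟨{a, c}, Finset.card_pair hca.symm, ?_, hc⟩
    rw [Finset.mem_insert, Finset.mem_singleton]
    rintro (e | e)
    · exact hax e.symm
    · have hinj : ∀ g ∈ K, g c = c := fun g hg => by rw [← e]; exact hx g hg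
      have hone : ∀ r ∈ MulAction.orbit K a, r = a := by
        rintro _ ⟨g, rfl⟩
        have hm : (g : Equiv.Perm GolayPt) a ∈ ({a, c} : Finset GolayPt) := by
          rw [← hc g g.2]
          exact Finset.smul_mem_smul_finset (Finset.mem_insert_self _ _)
        rw [Finset.mem_insert, Finset.mem_singleton] at hm
        exact hm.resolve_right fun h => hca ((g : Equiv.Perm GolayPt).injective (h.trans (hinj g g.2).symm)).symm
      haveI : Subsingleton (MulAction.orbit K a) := ⟨fun p q => Subtype.ext ((hone _ p.2).trans (hone _ q.2).symm)⟩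
      have := (Finite.card_le_one_iff_subsingleton (α := MulAction.orbit K a)).2 inferInstance
      omega
  · right
    set O := (MulAction.orbit K a).toFinset with hO
    have hOc : O.card = 16 := by rw [hO, ← Set.ncard_eq_toFinset_card', ← Nat.card_coe_set_eq, h16]
    have hinv : ∀ g ∈ K, g • Oᶜ = Oᶜ := by
      intro g hg
      refine Finset.eq_of_subset_of_card_le (fun r hr => ?_) (by rw [Finset.card_smul_finset])
      obtain ⟨s, hs, rfl⟩ := Finset.mem_smul_finset.1 hr
      rw [Finset.mem_compl, hO, Set.mem_toFinset] at hs ⊢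
      intro hgs
      obtain ⟨u, hu⟩ := hgs
      exact hs ⟨(⟨g, hg⟩ : K)⁻¹ * u, by
        show ((⟨g, hg⟩ : K)⁻¹ * u) • a = s
        rw [mul_smul, show u • a = g • s from hu, inv_smul_eq_iff]
        rfl⟩
    have hxC : x ∈ Oᶜ := Finset.mem_compl.2 fun h => hOx x (Set.mem_toFinset.1 h) rfl
    set o := Oᶜ with ho
    have hoc : o.card = 8 := by rw [ho, Finset.card_compl, hOc]; rfl
    refine ⟨o, ?_, hxC, hinv⟩
    -- an involution fixing the eight points
    let f : K →* Equiv.Perm o :=
      { toFun := fun g => (g : Equiv.Perm GolayPt).subtypePerm fun r => by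
          conv_lhs => rw [← hinv g g.2]
          exact Finset.smul_mem_smul_finset_iff _
        map_one' := Equiv.ext fun r => rfl
        map_mul' := fun g h => Equiv.ext fun r => rfl }
    have hrange : Nat.card f.range ∣ 5040 := by
      have hle : f.range ≤ MulAction.stabilizer (Equiv.Perm o) (⟨x, hxC⟩ : o) := by
        rintro _ ⟨g, rfl⟩
        exact Subtype.ext (hx g g.2)
      refine (Subgroup.card_dvd_of_le hle).trans ?_
      have hidx := (MulAction.stabilizer (Equiv.Perm o) (⟨x, hxC⟩ : o)).card_mul_index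
      rw [MulAction.index_stabilizer_of_transitive, Nat.card_perm, Nat.card_eq_finsetCard, hoc,
        show Nat.factorial 8 = 5040 * 8 by rfl] at hidx
      exact dvd_of_eq (Nat.eq_of_mul_eq_mul_right (by norm_num) hidx)
    have hker : 2 ∣ Nat.card f.ker := by
      have h := f.ker.card_mul_index
      rw [Subgroup.index_ker, hcard] at h
      obtain ⟨d, hd⟩ := hrange
      have h' : Nat.card f.ker * 5040 = 40320 * d := by rw [hd, ← h]; ring
      exact Dvd.dvd.trans (by norm_num : 2 ∣ 8) ⟨d, by omega⟩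
    haveI : Fact (Nat.Prime 2) := ⟨Nat.prime_two⟩
    obtain ⟨z, hz⟩ := exists_prime_orderOf_dvd_card' (G := f.ker) 2 hker
    have hzo : orderOf ((z : K) : Equiv.Perm GolayPt) = 2 := by
      rw [Subgroup.orderOf_coe, Subgroup.orderOf_coe, hz]
    have hzfix : ∀ r ∈ o, ((z : K) : Equiv.Perm GolayPt) r = r := fun r hr =>
      congrArg Subtype.val (Equiv.congr_fun (MonoidHom.mem_ker.1 z.2) (⟨r, hr⟩ : o))
    have hoct := fixSet_two_octad (hK (z : K).2) hzo (hzfix x hxC)
    convert hoct using 1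
    refine Finset.eq_of_subset_of_card_le (fun r hr => mem_fixSet.2 (hzfix r hr)) ?_
    rw [hoc, hoct.2]

theorem card_stab_le {s : Finset GolayPt} {x : GolayPt} (T : Finset GolayPt)
    (hT : ∀ p ∈ T, ∃ g ∈ M24, g • s = s ∧ g x = p) :
    T.card * Nat.card ↥((MulAction.stabilizer M24 s ⊓ MulAction.stabilizer M24 x)) ≤
      Nat.card (MulAction.stabilizer M24 s) := by
  classical
  set S := MulAction.stabilizer M24 s
  have h1 := Subgroup.card_mul_index (MulAction.stabilizer S x)
  have e : Nat.card (MulAction.stabilizer S x) = Nat.card ↥(S ⊓ MulAction.stabilizer M24 x) :=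
    Nat.card_congr
      { toFun := fun g => ⟨g.1.1, ⟨g.1.2, g.2⟩⟩
        invFun := fun g => ⟨⟨g.1, g.2.1⟩, g.2.2⟩
        left_inv := fun g => rfl
        right_inv := fun g => rfl }
  rw [e, MulAction.index_stabilizer, mul_comm] at h1
  refine le_trans (Nat.mul_le_mul_right _ ?_) h1.le
  rw [← Set.ncard_coe_finset]
  refine Set.ncard_le_ncard (fun p hp => ?_) (Set.toFinite _)
  obtain ⟨g, hg, hgs, hgx⟩ := hT p hp
  exact ⟨⟨⟨g, hg⟩, mem_stab_set.2 hgs⟩, hgx⟩

theorem index_point {x : GolayPt} {H : Subgroup ↥(MulAction.stabilizer M24 x)} (hH : H.index = 253) :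
    (∃ s : Finset GolayPt, s.card = 2 ∧ x ∉ s ∧
      H = (MulAction.stabilizer M24 s).subgroupOf (MulAction.stabilizer M24 x)) ∨
    ∃ o ∈ octads, x ∈ o ∧ H = (MulAction.stabilizer M24 o).subgroupOf (MulAction.stabilizer M24 x) := by
  classical
  set K := (H.map (MulAction.stabilizer M24 x).subtype).map M24.subtype with hKdef
  have hHc : Nat.card H = 40320 := by
    have := H.card_mul_index
    rw [hH, natCard_stab_point] at this
    omega
  have hK : K ≤ M24 := Subgroup.map_subtype_le _
  have hcard : Nat.card K = 40320 := by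
    rw [hKdef, Subgroup.card_map_of_injective M24.subtype_injective,
      Subgroup.card_map_of_injective (MulAction.stabilizer M24 x).subtype_injective, hHc]
  have hmem : ∀ g : MulAction.stabilizer M24 x, g ∈ H → ((g : M24) : Equiv.Perm GolayPt) ∈ K := fun g hg =>
    Subgroup.mem_map_of_mem _ (Subgroup.mem_map_of_mem _ hg)
  have hx : ∀ g ∈ K, g x = x := by
    rintro _ ⟨_, ⟨g, -, rfl⟩, rfl⟩
    exact mem_stab_point.1 g.2
  have hfin : ∀ s : Finset GolayPt, (∀ g ∈ K, g • s = s) →
      Nat.card ↥(MulAction.stabilizer M24 s ⊓ MulAction.stabilizer M24 x) ≤ 40320 →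
      H = (MulAction.stabilizer M24 s).subgroupOf (MulAction.stabilizer M24 x) := by
    intro s hs hle
    refine Subgroup.eq_of_le_of_card_ge (fun g hg => mem_stab_set.2 (hs _ (hmem g hg))) ?_
    rwa [hHc, ← Subgroup.inf_subgroupOf_right,
      Nat.card_congr (Subgroup.subgroupOfEquivOfLe inf_le_right).toEquiv]
  have hidx : ∀ {s : Finset GolayPt} {n : ℕ}, (MulAction.stabilizer M24 s).index = n →
      Nat.card (MulAction.stabilizer M24 s) * n = 244823040 := fun {s n} h => by
    rw [← h, Subgroup.card_mul_index, natCard_M24]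
  rcases fixes_pair_or_octad hK hx hcard with ⟨s, hs, hxs, hfix⟩ | ⟨o, ho, hxo, hfix⟩
  · refine Or.inl ⟨s, hs, hxs, hfin s hfix ?_⟩
    have h := card_stab_le (s := s) (x := x) sᶜ fun p hp => by
      obtain ⟨u, v, huv, rfl⟩ := Finset.card_eq_two.1 hs
      simp only [Finset.mem_compl, Finset.mem_insert, Finset.mem_singleton, not_or] at hp hxs
      obtain ⟨w, hw⟩ : ∃ w, w ∉ ({u, v, x, p} : Finset GolayPt) := by
        by_contra hno
        push Not at hno
        have hc := Finset.card_le_card (fun r _ => hno r : (Finset.univ : Finset GolayPt) ⊆ {u, v, x, p})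
        have h4 : ({u, v, x, p} : Finset GolayPt).card ≤ 4 := Finset.card_le_four
        rw [Finset.card_univ, show Fintype.card GolayPt = 24 from rfl] at hc
        omega
      obtain ⟨w', hw'⟩ : ∃ w', w' ∉ ({u, v, x, p, w} : Finset GolayPt) := by
        by_contra hno
        push Not at hno
        have hc := Finset.card_le_card (fun r _ => hno r : (Finset.univ : Finset GolayPt) ⊆ {u, v, x, p, w})
        have h5 : ({u, v, x, p, w} : Finset GolayPt).card ≤ 5 := Finset.card_le_five
        rw [Finset.card_univ, show Fintype.card GolayPt = 24 from rfl] at hc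
        omega
      simp only [Finset.mem_insert, Finset.mem_singleton, not_or] at hw hw'
      obtain ⟨g, hg, hgm⟩ := exists_map_five [u, v, x, w, w'] [u, v, p, w, w'] rfl
        (by simp [huv, Ne.symm hxs.1, Ne.symm hxs.2, Ne.symm hw.1, Ne.symm hw.2.1, Ne.symm hw.2.2.1,
          Ne.symm hw'.1, Ne.symm hw'.2.1, Ne.symm hw'.2.2.1, Ne.symm hw'.2.2.2.2]) rfl
        (by simp [huv, Ne.symm hp.1, Ne.symm hp.2, Ne.symm hw.1, Ne.symm hw.2.1, Ne.symm hw.2.2.2,
          Ne.symm hw'.1, Ne.symm hw'.2.1, Ne.symm hw'.2.2.2.1, Ne.symm hw'.2.2.2.2])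
      simp only [List.map_cons, List.map_nil, List.cons.injEq, and_true] at hgm
      refine ⟨g, hg, ?_, hgm.2.2.1⟩
      rw [Finset.smul_finset_insert, Finset.smul_finset_singleton, Equiv.Perm.smul_def, Equiv.Perm.smul_def,
        hgm.1, hgm.2.1]
    have h' := hidx (index_stab_duad hs)
    rw [Finset.card_compl, hs, show Fintype.card GolayPt = 24 from rfl] at h
    omega
  · refine Or.inr ⟨o, ho, hxo, hfin o hfix ?_⟩
    have h := card_stab_le (s := o) (x := x) o fun p hp => by
      obtain ⟨l₁, hl₁, hn₁, hm₁⟩ := exists_five (o := o) (by rw [ho.2]; norm_num) hxo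
      obtain ⟨l₂, hl₂, hn₂, hm₂⟩ := exists_five (o := o) (by rw [ho.2]; norm_num) hp
      obtain ⟨g, hg, hgm⟩ := exists_map_five _ _ hl₁ hn₁ hl₂ hn₂
      refine ⟨g, hg, octad_eq_of_five (smul_mem_octads hg ho) ho ?_, (List.cons.injEq _ _ _ _ ▸ hgm).1⟩
      rw [← hl₂, ← List.toFinset_card_of_nodup hn₂]
      refine Finset.card_le_card fun q hq => ?_
      rw [List.mem_toFinset] at hq
      refine Finset.mem_inter.2 ⟨?_, hm₂ q hq⟩
      rw [← hgm] at hq
      obtain ⟨r, hr, rfl⟩ := List.mem_map.1 hq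
      exact Finset.smul_mem_smul_finset (hm₁ r hr)
    have h' := natCard_stab_octad ho
    rw [ho.2] at h
    omega

end CfsgLib.Golay.Over
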